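import Cfsg.Agent.Lib.Helper28.U62.Beta

set_option autoImplicit false
set_option linter.unusedVariables false
set_option Elab.async false

namespace Cfsg.Agent.Lib.Helper28.U62

open Cfsg.Agent.Lib.Helper28.TC
open Cfsg.Agent.Lib.Helper56 (F4)

noncomputable section

set_option maxRecDepth 100000 in
theorem eqv_f : ∀ i, i < 3510 → eqvOK Gen.f i := by decide +kernel

end

end Cfsg.Agent.Lib.Helper28.U62
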