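import Cfsg.Agent.Lib.Helper28.U62.Eqv0
import Cfsg.Agent.Lib.Helper28.U62.Eqv1
import Cfsg.Agent.Lib.Helper28.U62.Eqv2
import Cfsg.Agent.Lib.Helper28.U62.Eqv3
import Cfsg.Agent.Lib.Helper28.U62.Eqv4
import Cfsg.Agent.Lib.Helper28.U62.Eqv5
import Cfsg.Agent.Lib.Helper28.U62.Eqv6
import Cfsg.Agent.Lib.Helper28.U62.Eqv7

set_option autoImplicit false
set_option linter.unusedVariables false
set_option Elab.async false

namespace Cfsg.Agent.Lib.Helper28.U62

open Cfsg.Agent.Lib.Helper28.TC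
open Cfsg.Agent.Lib.Helper56 (F4)

noncomputable section

set_option maxRecDepth 100000 in
theorem aOK_all : ∀ i, i < 3510 → aOK i := by decide +kernel

theorem eqv_all (x : Gen) : ∀ i, i < 3510 → eqvOK x i := by
  cases x
  · exact eqv_c
  · exact eqv_d
  · exact eqv_e
  · exact eqv_f
  · exact eqv_g
  · exact eqv_h
  · exact eqv_i
  · exact eqv_w

end

end Cfsg.Agent.Lib.Helper28.U62
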