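import Cfsg.Agent.Lib.Helper28.U62.Loc0
import Cfsg.Agent.Lib.Helper28.U62.Loc1
import Cfsg.Agent.Lib.Helper28.U62.Loc2
import Cfsg.Agent.Lib.Helper28.U62.Loc3
import Cfsg.Agent.Lib.Helper28.U62.Loc4
import Cfsg.Agent.Lib.Helper28.U62.Loc5
import Cfsg.Agent.Lib.Helper28.U62.Loc6
import Cfsg.Agent.Lib.Helper28.U62.Loc7

set_option autoImplicit false
set_option linter.unusedVariables false

namespace Cfsg.Agent.Lib.Helper28.U62

open Cfsg.Agent.Lib.Helper28.TC
open Cfsg.Agent.Lib.Helper56 (F4)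

noncomputable section

theorem loc_all (x : Gen) : ∀ i, i < nn → locOK x i := by
  cases x
  · exact loc_c
  · exact loc_d
  · exact loc_e
  · exact loc_f
  · exact loc_g
  · exact loc_h
  · exact loc_i
  · exact loc_w

end

end Cfsg.Agent.Lib.Helper28.U62
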