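/-
The eight unitary transvections `x ↦ x + h(x, v) v` attached to the isotropic vectors `vx` generate
`SU₆(2)`: their action on the 4096 vectors of `𝔽₄⁶` is tabulated (`Defs.lean`, `Loc*.lean`), and a
stabilizer chain `2079 · 540 · 128 · 32 · 6` (`Chain.lean`) shows that they generate a group of order at
least `|SU₆(2)| = 27590492160`.
-/
import Cfsg.Agent.Lib.Helper28.U62.Loc
import Cfsg.Agent.Lib.Helper28.U62.ChkP
import Cfsg.Agent.Lib.Helper28.U62.Chain
import Cfsg.Agent.Lib.Helper28.OrdLemmas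
import Cfsg.Agent.S2644
import Cfsg.Agent.S0278
import Cfsg.Prelude.Def_Classical

set_option autoImplicit false

namespace Cfsg.Agent.Lib.Helper28.U62

open Cfsg.Agent.Lib.Helper28.TC
open Cfsg.Agent.Lib.Helper28.Ord
open Cfsg.Agent.Lib.Helper56 (F4)
open Cfsg.Agent.S0837 (hf hermForm_eq_hf)
open Cfsg.Agent.S2644 (tv tv_mulVec hf_tv tv_det)
open Matrix

/-! ### The field automorphism and the special unitary group -/

/-- the Frobenius automorphism of the field with four elements -/
def sig : F4 →+* F4 where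
  toFun x := x * x
  map_one' := by decide
  map_mul' := by decide
  map_zero' := by decide
  map_add' := by decide

theorem sig_pow : ∀ x : F4, sig x = x ^ 2 := by decide

theorem sig_sig : ∀ x : F4, sig (sig x) = x := by decide

/-- `SU₆(2)` -/
abbrev SU6 : Subgroup (Matrix.SpecialLinearGroup (Fin 6) F4) := Cfsg.SU 6 F4 2

theorem hf_eq_hdot (u v : Fin 6 → F4) : hf sig u v = hdot u v := by
  unfold hf hdot
  rw [Fin.sum_univ_six]
  rfl

theorem hdot_vx (x : Gen) : hdot (vx x) (vx x) = 0 := by cases x <;> decide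

theorem tv_mulVec_eq (v u : Fin 6 → F4) : tv sig v 1 *ᵥ u = tvAct v u := by
  rw [tv_mulVec, one_mul, hf_eq_hdot]
  funext k
  simp [tvAct]

theorem tv_det_one (x : Gen) : (tv sig (vx x) 1).det = 1 := by
  rw [tv_det, hf_eq_hdot, hdot_vx, mul_zero, add_zero]

theorem tv_mem (x : Gen) :
    (⟨tv sig (vx x) 1, tv_det_one x⟩ : Matrix.SpecialLinearGroup (Fin 6) F4) ∈ SU6 := by
  intro u v
  rw [hermForm_eq_hf sig sig_pow, hermForm_eq_hf sig sig_pow]
  show hf sig (tv sig (vx x) 1 *ᵥ u) (tv sig (vx x) 1 *ᵥ v) = hf sig u v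
  rw [hf_tv sig sig_sig, hf_eq_hdot (vx x) (vx x), hdot_vx]
  have h2 : (1 : F4) + sig 1 + 1 * sig 1 * 0 = 0 := by decide
  rw [h2, zero_mul, add_zero]

/-- the generators in `SU₆(2)` -/
noncomputable def su (x : Gen) : ↥SU6 := ⟨⟨tv sig (vx x) 1, tv_det_one x⟩, tv_mem x⟩

/-- the matrix of an element of `SU₆(2)` -/
noncomputable def toM : ↥SU6 →* Matrix (Fin 6) (Fin 6) F4 :=
  (Cfsg.slToMat 6 F4).comp SU6.subtype

theorem toM_su (x : Gen) : toM (su x) = tv sig (vx x) 1 := rfl

/-! ### The permutation table on the 4096 vectors -/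

theorem permP_spec (i : ℕ) (hi : i < nn) : ∀ x, tf x i < nn ∧ tf x (tf x i) = i :=
  permRowOK_spec tf nn gens mem_gens i (permP_all i hi)

/-- the permutation table -/
noncomputable def T4 : PermTable Gen nn where
  tf := tf
  bound x i hi := (permP_spec i hi x).1
  invol x i hi := (permP_spec i hi x).2

theorem act_mat (w : List Gen) (i : ℕ) (hi : i < nn) :
    toM (wval su w) *ᵥ dec i = dec (act tf w i) ∧ act tf w i < nn := by
  induction w with
  | nil =>
    refine ⟨?_, hi⟩
    rw [wval_nil, map_one, Matrix.one_mulVec]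
    rfl
  | cons x w ih =>
    obtain ⟨h1, h2⟩ := ih
    rw [wval_cons, map_mul, ← Matrix.mulVec_mulVec, h1, act_cons, toM_su, tv_mulVec_eq]
    exact ⟨loc_all x _ h2, T4.bound x _ h2⟩

theorem dec_injOn (i j : ℕ) (hi : i < 4096) (hj : j < 4096) (h : dec i = dec j) : i = j := by
  rw [← enc_dec i hi, ← enc_dec j hj, h]

theorem dec_bijective : Function.Bijective (fun i : Fin nn => dec i.val) := by
  rw [Fintype.bijective_iff_injective_and_card]
  refine ⟨fun i j h => Fin.ext (dec_injOn _ _ i.2 j.2 h), ?_⟩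
  rw [Fintype.card_fin, Fintype.card_fun, Fintype.card_fin, F4.card]
  rfl

/-- the numbering of the vectors -/
noncomputable def vecEquiv : Fin nn ≃ (Fin 6 → F4) := Equiv.ofBijective _ dec_bijective

theorem vecEquiv_apply (i : Fin nn) : vecEquiv i = dec i.val := rfl

/-- the permutation representation of `SU₆(2)` on the numbers of the vectors -/
noncomputable def rho : ↥SU6 →* Equiv.Perm (Fin nn) where
  toFun m :=
    { toFun := fun i => vecEquiv.symm (toM m *ᵥ vecEquiv i)
      invFun := fun i => vecEquiv.symm (toM m⁻¹ *ᵥ vecEquiv i)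
      left_inv := fun i => by
        simp only [Equiv.apply_symm_apply, Matrix.mulVec_mulVec, ← map_mul, inv_mul_cancel, map_one,
          Matrix.one_mulVec, Equiv.symm_apply_apply]
      right_inv := fun i => by
        simp only [Equiv.apply_symm_apply, Matrix.mulVec_mulVec, ← map_mul, mul_inv_cancel, map_one,
          Matrix.one_mulVec, Equiv.symm_apply_apply] }
  map_one' := by
    ext i
    simp only [map_one, Matrix.one_mulVec, Equiv.symm_apply_apply, Equiv.coe_fn_mk,
      Equiv.Perm.coe_one, id_eq]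
  map_mul' m m' := by
    ext i
    simp only [map_mul, Equiv.coe_fn_mk, Equiv.Perm.coe_mul, Function.comp_apply,
      Equiv.apply_symm_apply, Matrix.mulVec_mulVec]

theorem rho_apply (m : ↥SU6) (i : Fin nn) : rho m i = vecEquiv.symm (toM m *ᵥ vecEquiv i) := rfl

theorem rho_su (x : Gen) : rho (su x) = T4.perm x := by
  ext i
  rw [rho_apply, toM_su, tv_mulVec_eq, vecEquiv_apply, loc_all x i.val i.2]
  have h : vecEquiv ⟨tf x i.val, T4.bound x _ i.2⟩ = dec (tf x i.val) := rfl
  rw [← h, Equiv.symm_apply_apply]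
  rfl

/-! ### Generation -/

/-- the subgroup generated by the eight transvections -/
noncomputable def H2 : Subgroup ↥SU6 := Subgroup.closure (Set.range su)

/-- the permutation group generated by the eight transvections -/
noncomputable def P4 : Subgroup (Equiv.Perm (Fin nn)) := Subgroup.closure (Set.range T4.perm)

theorem map_H2 : H2.map rho = P4 := by
  rw [H2, MonoidHom.map_closure, P4]
  congr 1
  ext p
  constructor
  · rintro ⟨_, ⟨x, rfl⟩, rfl⟩
    exact ⟨x, (rho_su x).symm⟩
  · rintro ⟨x, rfl⟩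
    exact ⟨su x, ⟨x, rfl⟩, rho_su x⟩

theorem closure_wordPerms_le_P4 (words : List (List Gen)) :
    Subgroup.closure (wordPerms T4 words) ≤ P4 := by
  rw [Subgroup.closure_le]
  rintro p ⟨w, _, rfl⟩
  apply Subgroup.list_prod_mem
  intro q hq
  obtain ⟨x, _, rfl⟩ := List.mem_map.1 hq
  exact Subgroup.subset_closure ⟨x, rfl⟩

theorem card_P4_ge : 2079 * 540 * 128 * 32 * 6 ≤ Nat.card P4 := by
  have hfix2 := fixOK_spec tf _ _ ch2_fix
  have hfix3 := fixOK_spec tf _ _ ch3_fix
  have hfix4 := fixOK_spec tf _ _ ch4_fix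
  have hfix5 := fixOK_spec tf _ _ ch5_fix
  have hb := chain_bound (A := Equiv.Perm (Fin nn)) (X := Fin nn)
    [(Subgroup.closure (wordPerms T4 chW1), ⟨chO1.root, ch1_rootlt⟩),
     (Subgroup.closure (wordPerms T4 chW2), ⟨chO2.root, ch2_rootlt⟩),
     (Subgroup.closure (wordPerms T4 chW3), ⟨chO3.root, ch3_rootlt⟩),
     (Subgroup.closure (wordPerms T4 chW4), ⟨chO4.root, ch4_rootlt⟩),
     (Subgroup.closure (wordPerms T4 chW5), ⟨chO5.root, ch5_rootlt⟩)] P4
    (by
      intro p hp
      simp only [List.mem_cons, List.not_mem_nil, or_false] at hp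
      rcases hp with rfl | rfl | rfl | rfl | rfl <;>
        exact closure_wordPerms_le_P4 _)
    (by
      simp only [List.pairwise_cons, List.mem_cons, List.not_mem_nil, or_false, forall_eq_or_imp,
        forall_eq, IsEmpty.forall_iff, implies_true, List.Pairwise.nil, and_true]
      refine ⟨⟨?_, ?_, ?_, ?_⟩, ⟨?_, ?_, ?_⟩, ⟨?_, ?_⟩, ?_⟩
      · exact closure_wordPerms_le_stabilizer T4 _ _ (hfix2 5 (by simp))
      · exact closure_wordPerms_le_stabilizer T4 _ _ (hfix3 5 (by simp))
      · exact closure_wordPerms_le_stabilizer T4 _ _ (hfix4 5 (by simp))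
      · exact closure_wordPerms_le_stabilizer T4 _ _ (hfix5 5 (by simp))
      · exact closure_wordPerms_le_stabilizer T4 _ _ (hfix3 80 (by simp))
      · exact closure_wordPerms_le_stabilizer T4 _ _ (hfix4 80 (by simp))
      · exact closure_wordPerms_le_stabilizer T4 _ _ (hfix5 80 (by simp))
      · exact closure_wordPerms_le_stabilizer T4 _ _ (hfix4 1 (by simp))
      · exact closure_wordPerms_le_stabilizer T4 _ _ (hfix5 1 (by simp))
      · exact closure_wordPerms_le_stabilizer T4 _ _ (hfix5 16 (by simp)))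
  have h1 := orbit_ncard_closure T4 chW1 chO1 ch1_rootlt ch1_root chP1_all 12 2079 ch_nn_le_pow ch1_count
  have h2 := orbit_ncard_closure T4 chW2 chO2 ch2_rootlt ch2_root chP2_all 12 540 ch_nn_le_pow ch2_count
  have h3 := orbit_ncard_closure T4 chW3 chO3 ch3_rootlt ch3_root chP3_all 12 128 ch_nn_le_pow ch3_count
  have h4 := orbit_ncard_closure T4 chW4 chO4 ch4_rootlt ch4_root chP4_all 12 32 ch_nn_le_pow ch4_count
  have h5 := orbit_ncard_closure T4 chW5 chO5 ch5_rootlt ch5_root chP5_all 12 6 ch_nn_le_pow ch5_count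
  simp only [List.map_cons, List.map_nil, List.prod_cons, List.prod_nil, h1, h2, h3, h4, h5] at hb
  exact le_trans (by norm_num) hb

theorem card_SU6 : Nat.card ↥SU6 = 27590492160 := by
  have h := Cfsg.Agent.S0278.result (F := F4) (q := 2) F4.card 6 (by norm_num)
  norm_num [Finset.prod_range_succ] at h
  have h' : 3 * Nat.card ↥SU6 = 82771476480 := h
  omega

instance finite_SU6 : Finite ↥SU6 := Nat.finite_of_card_ne_zero (by rw [card_SU6]; norm_num)

theorem H2_eq_top : H2 = ⊤ := by
  apply Subgroup.eq_top_of_le_card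
  rw [card_SU6]
  have h1 : Nat.card (H2.map rho) ≤ Nat.card H2 :=
    Nat.le_of_dvd Nat.card_pos (Subgroup.card_map_dvd (H := H2) rho)
  rw [map_H2] at h1
  exact le_trans (le_trans (by norm_num) card_P4_ge) h1

end Cfsg.Agent.Lib.Helper28.U62
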