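/-
The subgroup of `2·U₆(2) × SU₆(2)` (the first factor being the subgroup `⟨a, c, …, i, (abcdeh)^5⟩` of the
presented Fi₂₂) of the pairs `(k, m)` which are compatible with the correspondence between the 693 points
of the suborbit of the 3510-point table and the 693 isotropic points of the unitary space. It contains
the pairs (generator, transvection), so it projects onto both factors.
-/
import Cfsg.Agent.Lib.Helper28.U62.SU
import Cfsg.Agent.Lib.Helper28.U62.Eqv
import Cfsg.Agent.Lib.Helper28.U62.Rels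
import Cfsg.Agent.Lib.Helper28.Fi22Ord.Simple
import Cfsg.Agent.Lib.Helper28.CentralQuot

set_option autoImplicit false

namespace Cfsg.Agent.Lib.Helper28.U62

open Cfsg.Agent.Lib.Helper28.TC
open Cfsg.Agent.Lib.Helper28.Ord
open Cfsg.Agent.Lib.Helper28.CQ
open Cfsg.Agent.Lib.Helper28.Fi22Ord (GF KF gv phi)
open Cfsg.Agent.Lib.Helper56 (F4)
open Matrix

/-- the generators of the presented Fi₂₂ -/
abbrev FG : Type := Cfsg.Spor.Fi22.Gen

/-- the number of points -/
abbrev n3 : ℕ := Fi22x3510.nn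

theorem phi_val (w : List FG) (i : Fin n3) :
    (phi (wval gv w) i).val = act Fi22x3510.tf w i.val := by
  show ((PresentedGroup.toGroup Fi22x3510.hrel (wval (pval Fi22x3510.rels) w)) i).val = _
  rw [toGroup_wval Fi22x3510.T Fi22x3510.hrel, Fi22x3510.T.wordPerm_apply_val]
  rfl

/-! ### The compatibility relation -/

/-- the point lies in the suborbit of length 693 -/
def inS (i : Fin n3) : Prop := bt i.val ≠ 0

/-- the isotropic vector attached to a point -/
def vecOf (i : Fin n3) : Fin 6 → F4 := dec (bt i.val)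

/-- a permutation of the points and an element of `SU₆(2)` are compatible -/
def RelOK (p : Equiv.Perm (Fin n3)) (m : ↥SU6) : Prop :=
  ∀ i, inS i → inS (p i) ∧ ∃ l : F4, l ≠ 0 ∧ toM m *ᵥ vecOf i = l • vecOf (p i)

theorem relOK_one : RelOK 1 1 := by
  intro i hi
  refine ⟨hi, 1, one_ne_zero, ?_⟩
  rw [map_one, Matrix.one_mulVec, one_smul]
  rfl

theorem relOK_mul {p p' : Equiv.Perm (Fin n3)} {m m' : ↥SU6} (h : RelOK p m) (h' : RelOK p' m') :
    RelOK (p * p') (m * m') := by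
  intro i hi
  obtain ⟨h1, l', hl', e'⟩ := h' i hi
  obtain ⟨h2, l, hl, e⟩ := h (p' i) h1
  refine ⟨h2, l' * l, mul_ne_zero hl' hl, ?_⟩
  rw [map_mul, ← Matrix.mulVec_mulVec, e', Matrix.mulVec_smul, e, smul_smul]
  rfl

theorem relOK_inv {p : Equiv.Perm (Fin n3)} {m : ↥SU6} (h : RelOK p m) : RelOK p⁻¹ m⁻¹ := by
  intro i hi
  let f : {j : Fin n3 // inS j} → {j : Fin n3 // inS j} := fun j => ⟨p j.1, (h j.1 j.2).1⟩
  have hinj : Function.Injective f := by
    intro j j' hjj
    have h1 : p j.1 = p j'.1 := congrArg Subtype.val hjj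
    exact Subtype.ext (p.injective h1)
  obtain ⟨⟨j, hj⟩, hfj⟩ := Finite.surjective_of_injective hinj ⟨i, hi⟩
  have hpj : p j = i := congrArg Subtype.val hfj
  have hinv : p⁻¹ i = j := by rw [← hpj]; exact p.symm_apply_apply j
  obtain ⟨_, l, hl, e⟩ := h j hj
  rw [hinv]
  refine ⟨hj, l⁻¹, inv_ne_zero hl, ?_⟩
  rw [hpj] at e
  have h2 : toM m⁻¹ *ᵥ (toM m *ᵥ vecOf j) = vecOf j := by
    rw [Matrix.mulVec_mulVec, ← map_mul, inv_mul_cancel, map_one, Matrix.one_mulVec]
  rw [e, Matrix.mulVec_smul] at h2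
  rw [← h2, smul_smul, inv_mul_cancel₀ hl, one_smul]

/-- the subgroup of compatible pairs -/
noncomputable def RR : Subgroup (↥KF × ↥SU6) where
  carrier := {x | RelOK (phi (x.1 : GF)) x.2}
  mul_mem' {x y} hx hy := by
    show RelOK (phi ((x * y).1 : GF)) (x * y).2
    rw [Prod.fst_mul, Prod.snd_mul, Subgroup.coe_mul, map_mul]
    exact relOK_mul hx hy
  one_mem' := by
    show RelOK (phi ((1 : ↥KF × ↥SU6).1 : GF)) (1 : ↥KF × ↥SU6).2
    rw [Prod.fst_one, Prod.snd_one, Subgroup.coe_one, map_one]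
    exact relOK_one
  inv_mem' {x} hx := by
    show RelOK (phi ((x⁻¹).1 : GF)) (x⁻¹).2
    rw [Prod.fst_inv, Prod.snd_inv, Subgroup.coe_inv, map_inv]
    exact relOK_inv hx

theorem mem_RR (x : ↥KF × ↥SU6) : x ∈ RR ↔ RelOK (phi (x.1 : GF)) x.2 := Iff.rfl

/-! ### The generators -/

/-- the nine generators of `2·U₆(2)` -/
noncomputable def kg (o : Option Gen) : GF := wval gv (gwO o)

theorem gwO_mem (o : Option Gen) : gwO o ∈ Fi22x3510.subWords := by
  rcases o with _ | x
  · decide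
  · cases x <;> decide

theorem subWords_gwO : ∀ w ∈ Fi22x3510.subWords, ∃ o, gwO o = w := by
  intro w hw
  simp only [Fi22x3510.subWords, List.mem_cons, List.not_mem_nil, or_false] at hw
  rcases hw with rfl | rfl | rfl | rfl | rfl | rfl | rfl | rfl | rfl
  · exact ⟨none, rfl⟩
  · exact ⟨some .c, rfl⟩
  · exact ⟨some .d, rfl⟩
  · exact ⟨some .e, rfl⟩
  · exact ⟨some .f, rfl⟩
  · exact ⟨some .g, rfl⟩
  · exact ⟨some .h, rfl⟩
  · exact ⟨some .i, rfl⟩
  · exact ⟨some .w, rfl⟩

theorem mk_evalF (ex : WE FG) :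
    PresentedGroup.mk Fi22x3510.rels ex.evalF = wval gv ex.evalW := by
  rw [← lift_pval, WE.lift_evalF (pval Fi22x3510.rels) Fi22x3510.hinv]

theorem KF_eq_range : KF = Subgroup.closure (Set.range kg) := by
  rw [Fi22Ord.KF_eq_closure]
  congr 1
  ext y
  constructor
  · rintro ⟨s, hs, rfl⟩
    obtain ⟨ex, hex, rfl⟩ := (Fi22x3510.subS_iff s).1 hs
    obtain ⟨o, ho⟩ := subWords_gwO _ (Fi22x3510.subE_words ex hex)
    exact ⟨o, by rw [mk_evalF, kg, ho]⟩
  · rintro ⟨o, rfl⟩
    obtain ⟨ex, hex, he⟩ := Fi22x3510.subWords_cover _ (gwO_mem o)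
    exact ⟨ex.evalF, (Fi22x3510.subS_iff _).2 ⟨ex, hex, rfl⟩, by rw [mk_evalF, kg, he]⟩

theorem kg_mem (o : Option Gen) : kg o ∈ KF := by
  rw [KF_eq_range]
  exact Subgroup.subset_closure ⟨o, rfl⟩

/-- the nine generators, in `2·U₆(2)` -/
noncomputable def kK (o : Option Gen) : ↥KF := ⟨kg o, kg_mem o⟩

theorem closure_kK : Subgroup.closure (Set.range kK) = ⊤ :=
  closure_range_subtype_eq_top kg KF KF_eq_range kK (fun _ => rfl)

/-- the corresponding elements of `SU₆(2)` -/
noncomputable def mO : Option Gen → ↥SU6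
  | none => 1
  | some x => su x

theorem pair_mem (o : Option Gen) : (kK o, mO o) ∈ RR := by
  rw [mem_RR]
  show RelOK (phi (wval gv (gwO o))) (mO o)
  intro i hi
  rcases o with _ | x
  · have h := aOK_all i.val i.2
    have hfix : phi (wval gv (gwO none)) i = i := by
      apply Fin.ext
      rw [phi_val]
      rcases h with h | h
      · exact absurd h hi
      · exact h
    rw [hfix]
    refine ⟨hi, 1, one_ne_zero, ?_⟩
    show toM 1 *ᵥ vecOf i = (1 : F4) • vecOf i
    rw [map_one, Matrix.one_mulVec, one_smul]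
  · have h := eqv_all x i.val i.2
    rcases h with h | ⟨h1, l, hl, h2⟩
    · exact absurd h hi
    · have hv : (phi (wval gv (gwO (some x))) i).val = act Fi22x3510.tf (gw x) i.val := phi_val _ i
      refine ⟨?_, l, hl, ?_⟩
      · show bt (phi (wval gv (gwO (some x))) i).val ≠ 0
        rw [hv]
        exact h1
      · show toM (su x) *ᵥ dec (bt i.val) = l • dec (bt (phi (wval gv (gwO (some x))) i).val)
        rw [hv, toM_su, tv_mulVec_eq, h2]
        rfl

theorem fst_surjective : Function.Surjective (Prod.fst ∘ RR.subtype) := by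
  have h : RR.map (MonoidHom.fst ↥KF ↥SU6) = ⊤ := by
    rw [eq_top_iff, ← closure_kK, Subgroup.closure_le]
    rintro _ ⟨o, rfl⟩
    exact ⟨(kK o, mO o), pair_mem o, rfl⟩
  intro k
  have hk : k ∈ RR.map (MonoidHom.fst ↥KF ↥SU6) := h ▸ Subgroup.mem_top k
  obtain ⟨x, hx, rfl⟩ := hk
  exact ⟨⟨x, hx⟩, rfl⟩

theorem snd_surjective : Function.Surjective (Prod.snd ∘ RR.subtype) := by
  have h : RR.map (MonoidHom.snd ↥KF ↥SU6) = ⊤ := by
    rw [eq_top_iff, ← H2_eq_top, H2, Subgroup.closure_le]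
    rintro _ ⟨x, rfl⟩
    exact ⟨(kK (some x), mO (some x)), pair_mem (some x), rfl⟩
  intro m
  have hm : m ∈ RR.map (MonoidHom.snd ↥KF ↥SU6) := h ▸ Subgroup.mem_top m
  obtain ⟨x, hx, rfl⟩ := hm
  exact ⟨⟨x, hx⟩, rfl⟩

end Cfsg.Agent.Lib.Helper28.U62
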