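/-
The subgroup `⟨a, c, …, i, (abcdeh)^5⟩` of the presented Fi₂₂ is a non-split double cover of `PSU₆(2)`.
Goursat's lemma, applied to the subgroup of compatible pairs of `Rel.lean`, gives an isomorphism
`2·U₆(2) / N₁ ≃ SU₆(2) / N₂`; the simplicity of `PSU₆(2)` and the orders force `N₂` to be the centre of
`SU₆(2)` and `N₁` to have order 2.
-/
import Cfsg.Agent.Lib.Helper28.U62.Rel
import Cfsg.Agent.S0279
import Cfsg.Agent.S0283
import Cfsg.Agent.S0780
import Cfsg.Agent.S0781
import Cfsg.Prelude.Def_SporadicB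

set_option autoImplicit false

namespace Cfsg.Agent.Lib.Helper28.U62

open Cfsg.Agent.Lib.Helper28.TC
open Cfsg.Agent.Lib.Helper28.Ord
open Cfsg.Agent.Lib.Helper28.CQ
open Cfsg.Agent.Lib.Helper28.Fi22Ord (GF KF gv phi)
open Cfsg.Agent.Lib.Helper56 (F4)
open Matrix

/-! ### General lemmas -/

section General

variable {G : Type*} [Group G]

/-- a normal subgroup of order 2 is central -/
theorem normal_card_two_le_center (N : Subgroup G) [N.Normal] (h : Nat.card N = 2) :
    N ≤ Subgroup.center G := by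
  intro n hn
  rw [Subgroup.mem_center_iff]
  intro g
  by_cases h1 : n = 1
  · subst h1; simp
  · have hc : g * n * g⁻¹ ∈ N := Subgroup.Normal.conj_mem inferInstance n hn g
    obtain ⟨y, _, huniq⟩ := (Nat.card_eq_two_iff' (1 : N)).1 h
    have e1 : (⟨n, hn⟩ : N) = y := huniq _ (fun h2 => h1 (congrArg Subtype.val h2))
    have e2 : (⟨g * n * g⁻¹, hc⟩ : N) = y := huniq _ (fun h2 => h1 (by
      have h3 : g * n * g⁻¹ = 1 := congrArg Subtype.val h2
      have h4 : g * n = g := by rw [← mul_inv_eq_one, h3]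
      exact mul_eq_left.1 h4))
    have h5 : g * n * g⁻¹ = n := congrArg Subtype.val (e2.trans e1.symm)
    exact mul_inv_eq_iff_eq_mul.1 h5

end General

/-! ### The special unitary group -/

theorem card_F4 : Fintype.card F4 = 2 ^ 2 := F4.card

theorem perfect_SU6 : commutator ↥SU6 = ⊤ := by
  rw [eq_top_iff, ← Cfsg.Agent.S0780.result card_F4 6 (by norm_num) (by norm_num),
    Subgroup.closure_le]
  rintro A ⟨v, c, hv, hA⟩
  have hmem := Cfsg.Agent.S0781.result card_F4 6 (Or.inl (by norm_num)) A v c hv hA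
  rw [SetLike.mem_coe, commutator_eq_closure]
  exact Subgroup.subset_closure hmem

instance simple_PSU6 : IsSimpleGroup (Cfsg.PSU 6 F4 2) :=
  Cfsg.Agent.S0283.result card_F4 6 (by norm_num) (by norm_num)

theorem card_center_SU6 : Nat.card (Subgroup.center ↥SU6) = 3 := by
  have h := Cfsg.Agent.S0279.result card_F4 6 (by norm_num)
  rw [h]
  rfl

/-! ### Goursat's lemma -/

/-- the elements of `2·U₆(2)` compatible with the identity of `SU₆(2)` -/
noncomputable abbrev N1 : Subgroup ↥KF := RR.goursatFst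

/-- the elements of `SU₆(2)` compatible with the identity of `2·U₆(2)` -/
noncomputable abbrev N2 : Subgroup ↥SU6 := RR.goursatSnd

instance normal_N1 : N1.Normal := Subgroup.normal_goursatFst fst_surjective

instance normal_N2 : N2.Normal := Subgroup.normal_goursatSnd snd_surjective

theorem exists_equiv : Nonempty (↥KF ⧸ N1 ≃* ↥SU6 ⧸ N2) := by
  obtain ⟨e, _⟩ := Subgroup.goursat_surjective fst_surjective snd_surjective
  exact ⟨e⟩

instance finite_KF : Finite ↥KF := inferInstance

theorem card_quot_eq : Nat.card (↥KF ⧸ N1) = Nat.card (↥SU6 ⧸ N2) := by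
  obtain ⟨e⟩ := exists_equiv
  exact Nat.card_congr e.toEquiv

/-- the generator `c` is not compatible with the identity -/
theorem c_not_mem_N1 : kK (some Gen.c) ∉ N1 := by
  intro h
  rw [Subgroup.mem_goursatFst, mem_RR] at h
  have h1 : RelOK (phi (wval gv (gwO (some Gen.c)))) 1 := h
  obtain ⟨_, l, hl, e⟩ := h1 ⟨10, by decide⟩ (by unfold inS; decide +kernel)
  have hv : (phi (wval gv (gwO (some Gen.c))) ⟨10, by decide⟩).val = 16 := by
    rw [phi_val]
    decide +kernel
  rw [map_one, Matrix.one_mulVec] at e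
  have e2 : dec (bt 10) = l • dec (bt 16) := by
    have e3 := e
    unfold vecOf at e3
    rw [hv] at e3
    exact e3
  revert l
  decide +kernel

theorem N1_ne_top : N1 ≠ ⊤ := by
  intro h
  exact c_not_mem_N1 (h ▸ Subgroup.mem_top _)

theorem N2_le_center : N2 ≤ Subgroup.center ↥SU6 := by
  have hn : (N2.map (QuotientGroup.mk' (Subgroup.center ↥SU6))).Normal :=
    Subgroup.Normal.map inferInstance _ (QuotientGroup.mk'_surjective _)
  rcases hn.eq_bot_or_eq_top with h | h
  · intro x hx
    have h1 : QuotientGroup.mk' (Subgroup.center ↥SU6) x ∈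
        N2.map (QuotientGroup.mk' (Subgroup.center ↥SU6)) := Subgroup.mem_map_of_mem _ hx
    rw [h, Subgroup.mem_bot] at h1
    exact (QuotientGroup.eq_one_iff x).1 h1
  · exfalso
    have hsup : N2 ⊔ Subgroup.center ↥SU6 = ⊤ := by
      have h1 := Subgroup.comap_map_eq (QuotientGroup.mk' (Subgroup.center ↥SU6)) N2
      rw [h, Subgroup.comap_top, QuotientGroup.ker_mk'] at h1
      exact h1.symm
    have hle := Subgroup.Normal.commutator_le_of_self_sup_commutative_eq_top hsup inferInstance
    rw [perfect_SU6, top_le_iff] at hle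
    have h1 : Nat.card (↥SU6 ⧸ N2) = 1 := by
      rw [hle]
      exact Nat.card_eq_one_iff_unique.2 ⟨QuotientGroup.subsingleton_quotient_top, ⟨1⟩⟩
    have h2 : Nat.card (↥KF ⧸ N1) = 1 := card_quot_eq.trans h1
    have h3 : N1.index = 1 := h2
    exact N1_ne_top (Subgroup.index_eq_one.1 h3)

theorem card_N : Nat.card N1 = 2 ∧ Nat.card N2 = 3 := by
  have h1 := Subgroup.card_eq_card_quotient_mul_card_subgroup N1
  have h2 := Subgroup.card_eq_card_quotient_mul_card_subgroup N2
  rw [Fi22Ord.card_KF] at h1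
  rw [card_SU6, ← card_quot_eq] at h2
  have h3 : Nat.card N2 ∣ 3 := by
    rw [← card_center_SU6]
    exact Subgroup.card_dvd_of_le N2_le_center
  have h4 : Nat.card N2 = 1 ∨ Nat.card N2 = 3 := (Nat.dvd_prime Nat.prime_three).1 h3
  have hpos : 0 < Nat.card N1 := Nat.card_pos
  rcases h4 with h4 | h4
  · exfalso
    rw [h4, mul_one] at h2
    rw [← h2] at h1
    nlinarith
  · refine ⟨?_, h4⟩
    rw [h4] at h2
    have h5 : Nat.card (↥KF ⧸ N1) = 9196830720 := by omega
    rw [h5] at h1
    omega

theorem N2_eq_center : N2 = Subgroup.center ↥SU6 := by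
  apply Subgroup.eq_of_le_of_card_ge N2_le_center
  rw [card_center_SU6, card_N.2]

theorem exists_equiv_PSU : Nonempty (↥KF ⧸ N1 ≃* Cfsg.PSU 6 F4 2) := by
  obtain ⟨e⟩ := exists_equiv
  exact ⟨e.trans (QuotientGroup.quotientMulEquivOfEq N2_eq_center)⟩

theorem card_PSU6 : Nat.card (Cfsg.PSU 6 F4 2) = 9196830720 := by
  have h := Subgroup.card_eq_card_quotient_mul_card_subgroup (Subgroup.center ↥SU6)
  rw [card_SU6, card_center_SU6] at h
  show Nat.card (↥SU6 ⧸ Subgroup.center ↥SU6) = 9196830720
  omega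

theorem center_quot : Subgroup.center (↥KF ⧸ N1) = ⊥ := by
  obtain ⟨e⟩ := exists_equiv_PSU
  have hs : IsSimpleGroup (↥KF ⧸ N1) := e.isSimpleGroup_congr.2 simple_PSU6
  apply center_eq_bot_of_simple
  rw [Nat.card_congr e.toEquiv, card_PSU6]
  norm_num

theorem center_KF : Subgroup.center ↥KF = N1 :=
  center_eq_of_quotient N1 (normal_card_two_le_center N1 card_N.1) center_quot

/-! ### No subgroup of index 2 -/

theorem kg_eq (o : Option Gen) : (kK o : GF) = wval gv (gwO o) := rfl

theorem wval_kK (r : List (Option Gen)) : ((wval kK r : ↥KF) : GF) = wval gv (expand r) := by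
  induction r with
  | nil => rfl
  | cons o r ih =>
    rw [wval_cons, Subgroup.coe_mul, ih, kg_eq]
    show _ = wval gv ((gwO o :: r.map gwO).flatten)
    rw [List.flatten_cons, wval_append]
    rfl

theorem oRel_one (r : List (Option Gen)) (hr : r ∈ oRel) : wval kK r = 1 := by
  apply Subtype.ext
  rw [wval_kK, Subgroup.coe_one]
  apply Fi22Ord.wval_eq_one_of_fix
  intro i hi
  exact relRowOK_spec Fi22x3510.tf (oRel.map expand) i (uRelP_all i hi) _
    (List.mem_map_of_mem hr)

theorem kK_sq (x : Cfsg.Spor.Fi22.Gen) (y : Gen) (h : gw y = [x]) :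
    kK (some y) * kK (some y) = 1 := by
  apply Subtype.ext
  rw [Subgroup.coe_mul, kg_eq, Subgroup.coe_one]
  show wval gv (gw y) * wval gv (gw y) = 1
  rw [h, wval_cons, wval_nil, mul_one]
  exact Fi22Ord.sq x

theorem kK_cube (x x' : Cfsg.Spor.Fi22.Gen) (y y' : Gen) (h : gw y = [x]) (h' : gw y' = [x'])
    (hr : [x, x', x, x', x, x'] ∈ Fi22x3510.relWords) :
    (kK (some y) * kK (some y')) ^ 3 = 1 := by
  apply Subtype.ext
  rw [Subgroup.coe_pow, Subgroup.coe_mul, kg_eq, kg_eq, Subgroup.coe_one]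
  show (wval gv (gw y) * wval gv (gw y')) ^ 3 = 1
  rw [h, h', wval_cons, wval_nil, mul_one, wval_cons, wval_nil, mul_one]
  exact Fi22Ord.rel_cube x x' hr

section Hom

variable {Q : Type*} [Group Q] (hQ : ∀ q : Q, q * q = 1) (π : ↥KF →* Q)

include hQ

theorem eq_of_cube_exp_two (p q : Q) (h : (p * q) ^ 3 = 1) : p = q := by
  have h1 : (p * q) ^ 3 = p * q := by
    rw [pow_succ, pow_two, hQ (p * q), one_mul]
  rw [h1] at h
  have h2 : q⁻¹ = q := inv_eq_of_mul_eq_one_left (hQ q)
  rw [← h2]
  exact eq_inv_of_mul_eq_one_left h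

theorem pow_exp_two (t : Q) (n : ℕ) : t ^ (2 * n + 1) = t := by
  rw [pow_succ, pow_mul, pow_two, hQ t, one_pow, one_mul]

theorem wval_const (f : Option Gen → Q) (t : Q) (hf : ∀ x, f (some x) = t) (r : List Gen) :
    wval f (r.map some) = t ^ r.length := by
  induction r with
  | nil => rw [List.map_nil, wval_nil, List.length_nil, pow_zero]
  | cons x r ih =>
    rw [List.map_cons, wval_cons, ih, hf, List.length_cons, pow_succ']

theorem hom_trivial (k : ↥KF) : π k = 1 := by
  have step : ∀ (x x' : Cfsg.Spor.Fi22.Gen) (y y' : Gen), gw y = [x] → gw y' = [x'] →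
      [x, x', x, x', x, x'] ∈ Fi22x3510.relWords → π (kK (some y)) = π (kK (some y')) := by
    intro x x' y y' h h' hr
    apply eq_of_cube_exp_two hQ
    rw [← map_mul, ← map_pow, kK_cube x x' y y' h h' hr, map_one]
  have hcd := step .c .d .c .d rfl rfl (by decide)
  have hde := step .d .e .d .e rfl rfl (by decide)
  have hef := step .e .f .e .f rfl rfl (by decide)
  have hfg := step .f .g .f .g rfl rfl (by decide)
  have hdh := step .d .h .d .h rfl rfl (by decide)
  have hhi := step .h .i .h .i rfl rfl (by decide)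
  have hwf : π (kK (some .w)) = π (kK (some .f)) := by
    apply eq_of_cube_exp_two hQ
    have h1 := oRel_one (wfWord.map some) (by simp [oRel])
    have h2 : wval kK (wfWord.map some) = (kK (some .w) * kK (some .f)) ^ 3 := by
      simp [wfWord, wval, pow_succ, mul_assoc]
    rw [← map_mul, ← map_pow, ← h2, h1, map_one]
  obtain ⟨t, ht⟩ : ∃ t, π (kK (some .c)) = t := ⟨_, rfl⟩
  have hall : ∀ x : Gen, π (kK (some x)) = t := by
    intro x
    cases x
    · exact ht
    · rw [← hcd]; exact ht
    · rw [← hde, ← hcd]; exact ht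
    · rw [← hef, ← hde, ← hcd]; exact ht
    · rw [← hfg, ← hef, ← hde, ← hcd]; exact ht
    · rw [← hdh, ← hcd]; exact ht
    · rw [← hhi, ← hdh, ← hcd]; exact ht
    · rw [hwf, ← hef, ← hde, ← hcd]; exact ht
  have hw : ∀ r : List (Option Gen), π (wval kK r) = wval (fun o => π (kK o)) r := by
    intro r
    induction r with
    | nil => exact map_one π
    | cons o r ih => rw [wval_cons, map_mul, ih, wval_cons]
  have ht1 : t = 1 := by
    have h1 := oRel_one (e7Word.map some) (by simp [oRel])
    have h2 := congrArg π h1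
    rw [hw, wval_const hQ (fun o => π (kK o)) t hall, map_one] at h2
    have h3 : e7Word.length = 2 * 31 + 1 := by decide
    rw [h3, pow_exp_two hQ] at h2
    exact h2
  have ha : π (kK none) = 1 := by
    have h1 := oRel_one (none :: aWord.map some) (by simp [oRel])
    have h2 := congrArg π h1
    rw [hw, wval_cons, wval_const hQ (fun o => π (kK o)) t hall, ht1, one_pow, mul_one, map_one] at h2
    exact h2
  have hgen : ∀ o, π (kK o) = 1 := by
    intro o
    rcases o with _ | x
    · exact ha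
    · rw [hall x, ht1]
  have hker : (⊤ : Subgroup ↥KF) ≤ π.ker := by
    rw [← closure_kK, Subgroup.closure_le]
    rintro _ ⟨o, rfl⟩
    exact hgen o
  exact hker (Subgroup.mem_top k)

end Hom

theorem no_index_two (L : Subgroup ↥KF) : L.index ≠ 2 := by
  intro h
  have hn : L.Normal := Subgroup.normal_of_index_eq_two h
  have hcard : Nat.card (↥KF ⧸ L) = 2 := h
  have hQ : ∀ q : ↥KF ⧸ L, q * q = 1 := by
    intro q
    have h1 := pow_card_eq_one' (G := ↥KF ⧸ L) (x := q)
    rw [hcard, pow_two] at h1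
    exact h1
  have htriv : ∀ k : ↥KF, (QuotientGroup.mk' L) k = 1 := hom_trivial hQ (QuotientGroup.mk' L)
  have hL : L = ⊤ := by
    rw [eq_top_iff]
    intro k _
    exact (QuotientGroup.eq_one_iff k).1 (htriv k)
  rw [hL, Subgroup.index_top] at h
  exact absurd h (by norm_num)

theorem no_complement (L : Subgroup ↥KF) : ¬ (Subgroup.center ↥KF).IsComplement' L := by
  intro hc
  apply no_index_two L
  rw [hc.index_eq_card, center_KF, card_N.1]

/-- the subgroup `⟨a, c, …, i, (abcdeh)^5⟩` of the presented Fi₂₂ is a non-split double cover of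
`PSU₆(2)` -/
theorem nonsplit_cover : Cfsg.IsNonsplitDoubleCover ↥KF (Cfsg.PSU 6 F4 2) := by
  refine ⟨?_, ?_, no_complement⟩
  · rw [center_KF, card_N.1]
  · obtain ⟨e⟩ := exists_equiv_PSU
    exact ⟨(QuotientGroup.quotientMulEquivOfEq center_KF).trans e⟩

end Cfsg.Agent.Lib.Helper28.U62
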