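import Cfsg.Agent.Lib.Helper28.U62.Beta

set_option autoImplicit false
set_option linter.unusedVariables false
set_option Elab.async false

namespace Cfsg.Agent.Lib.Helper28.U62

open Cfsg.Agent.Lib.Helper28.TC
open Cfsg.Agent.Lib.Helper56 (F4)

noncomputable section

/-- the word of the generator `a` in the eight transvections: the product of the five transvections of a totally isotropic line -/
def aWord : List Gen := [Gen.c, Gen.e, Gen.g, Gen.d, Gen.h, Gen.i, Gen.w, Gen.c, Gen.d, Gen.h, Gen.i, Gen.f, Gen.e, Gen.d, Gen.h, Gen.g, Gen.f, Gen.e, Gen.d, Gen.c, Gen.d, Gen.e, Gen.f, Gen.g, Gen.h, Gen.d, Gen.e, Gen.f, Gen.i, Gen.h, Gen.d, Gen.c, Gen.w, Gen.i, Gen.h, Gen.d, Gen.d, Gen.h, Gen.i, Gen.w, Gen.e, Gen.d, Gen.h, Gen.i, Gen.f, Gen.e, Gen.d, Gen.h, Gen.g, Gen.f, Gen.e, Gen.d, Gen.c, Gen.d, Gen.e, Gen.f, Gen.g, Gen.h, Gen.d, Gen.e, Gen.f, Gen.i, Gen.h, Gen.d, Gen.e, Gen.w, Gen.i, Gen.h, Gen.d]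

/-- the word `(ihdefgc)^9` -/
def e7Word : List Gen := [Gen.i, Gen.h, Gen.d, Gen.e, Gen.f, Gen.g, Gen.c, Gen.i, Gen.h, Gen.d, Gen.e, Gen.f, Gen.g, Gen.c, Gen.i, Gen.h, Gen.d, Gen.e, Gen.f, Gen.g, Gen.c, Gen.i, Gen.h, Gen.d, Gen.e, Gen.f, Gen.g, Gen.c, Gen.i, Gen.h, Gen.d, Gen.e, Gen.f, Gen.g, Gen.c, Gen.i, Gen.h, Gen.d, Gen.e, Gen.f, Gen.g, Gen.c, Gen.i, Gen.h, Gen.d, Gen.e, Gen.f, Gen.g, Gen.c, Gen.i, Gen.h, Gen.d, Gen.e, Gen.f, Gen.g, Gen.c, Gen.i, Gen.h, Gen.d, Gen.e, Gen.f, Gen.g, Gen.c]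

/-- the word `(wf)^3` -/
def wfWord : List Gen := [Gen.w, Gen.f, Gen.w, Gen.f, Gen.w, Gen.f]

/-- the words of the presented Fi₂₂ giving the nine generators -/
def gwO : Option Gen → List Cfsg.Spor.Fi22.Gen
  | none => [Cfsg.Spor.Fi22.Gen.a]
  | some x => gw x

/-- a word in the nine generators as a word of the presented Fi₂₂ -/
def expand (r : List (Option Gen)) : List Cfsg.Spor.Fi22.Gen := (r.map gwO).flatten

/-- three relations among the nine generators -/
def oRel : List (List (Option Gen)) := [e7Word.map some, wfWord.map some, none :: aWord.map some]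

def uRelP (i : ℕ) : Bool := relRowOK Fi22x3510.tf (oRel.map expand) i

theorem uRelP_blk0 : allRange (guard Fi22x3510.nn uRelP) 8 (0 * 2 ^ 8) = true := by decide +kernel
theorem uRelP_blk1 : allRange (guard Fi22x3510.nn uRelP) 8 (1 * 2 ^ 8) = true := by decide +kernel
theorem uRelP_blk2 : allRange (guard Fi22x3510.nn uRelP) 8 (2 * 2 ^ 8) = true := by decide +kernel
theorem uRelP_blk3 : allRange (guard Fi22x3510.nn uRelP) 8 (3 * 2 ^ 8) = true := by decide +kernel
theorem uRelP_blk4 : allRange (guard Fi22x3510.nn uRelP) 8 (4 * 2 ^ 8) = true := by decide +kernel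
theorem uRelP_blk5 : allRange (guard Fi22x3510.nn uRelP) 8 (5 * 2 ^ 8) = true := by decide +kernel
theorem uRelP_blk6 : allRange (guard Fi22x3510.nn uRelP) 8 (6 * 2 ^ 8) = true := by decide +kernel
theorem uRelP_blk7 : allRange (guard Fi22x3510.nn uRelP) 8 (7 * 2 ^ 8) = true := by decide +kernel
theorem uRelP_blk8 : allRange (guard Fi22x3510.nn uRelP) 8 (8 * 2 ^ 8) = true := by decide +kernel
theorem uRelP_blk9 : allRange (guard Fi22x3510.nn uRelP) 8 (9 * 2 ^ 8) = true := by decide +kernel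
theorem uRelP_blk10 : allRange (guard Fi22x3510.nn uRelP) 8 (10 * 2 ^ 8) = true := by decide +kernel
theorem uRelP_blk11 : allRange (guard Fi22x3510.nn uRelP) 8 (11 * 2 ^ 8) = true := by decide +kernel
theorem uRelP_blk12 : allRange (guard Fi22x3510.nn uRelP) 8 (12 * 2 ^ 8) = true := by decide +kernel
theorem uRelP_blk13 : allRange (guard Fi22x3510.nn uRelP) 8 (13 * 2 ^ 8) = true := by decide +kernel
theorem uRelP_all : ∀ i, i < Fi22x3510.nn → uRelP i = true := by
  refine all_of_blocks Fi22x3510.nn uRelP 8 14 (by decide) ?_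
  intro k hk
  interval_cases k
  · exact uRelP_blk0
  · exact uRelP_blk1
  · exact uRelP_blk2
  · exact uRelP_blk3
  · exact uRelP_blk4
  · exact uRelP_blk5
  · exact uRelP_blk6
  · exact uRelP_blk7
  · exact uRelP_blk8
  · exact uRelP_blk9
  · exact uRelP_blk10
  · exact uRelP_blk11
  · exact uRelP_blk12
  · exact uRelP_blk13

end

end Cfsg.Agent.Lib.Helper28.U62
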