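/-
The presented Fischer group Fi₂₂ as a 3-transposition group: the conjugacy class of the generator `a`
consists of 3510 3-transpositions, it generates the group, and the centralizer of each of its members is a
non-split double cover of `PSU₆(2)`.
-/
import Cfsg.Agent.Lib.Helper28.U62.Final
import Cfsg.Prelude.Def_Sporadic

set_option autoImplicit false

namespace Cfsg.Agent.Lib.Helper28.U62

open Cfsg.Agent.Lib.Helper28.TC
open Cfsg.Agent.Lib.Helper28.Ord
open Cfsg.Agent.Lib.Helper28.CQ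
open Cfsg.Agent.Lib.Helper28.Fi22Ord (GF KF gv phi index_KF prim_KF sq rel_cube relWord_one)
open Cfsg.Agent.Lib.Helper56 (F4)
open MulAction

/-! ### General lemmas -/

section General

variable {Q : Type*} [Group Q]

/-- two involutions whose product has order dividing 3 are conjugate under that product -/
theorem conj_braid (x y : Q) (hx : x * x = 1) (hy : y * y = 1) (h : (x * y) ^ 3 = 1) :
    (x * y) * x * (x * y)⁻¹ = y := by
  have hx' : x⁻¹ = x := inv_eq_of_mul_eq_one_left hx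
  have hy' : y⁻¹ = y := inv_eq_of_mul_eq_one_left hy
  have e : (x * y) * x * (x * y)⁻¹ = (x * y) ^ 3 * y⁻¹ := by
    rw [mul_inv_rev, hx', hy', pow_succ, pow_two]
    simp only [mul_assoc, hy, mul_one]
  rw [e, h, one_mul, hy']

theorem eq_one_of_pow_two_three (x : Q) (h2 : x ^ 2 = 1) (h3 : x ^ 3 = 1) : x = 1 := by
  have : x ^ 3 = x ^ 2 * x := pow_succ x 2
  rw [this, h2, one_mul] at h3
  exact h3

/-- a point stabilizer with exactly two further orbits of known distinct sizes -/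
theorem cover_of_two_suborbits {G : Type*} [Group G] {X : Type*} [MulAction G X] [Finite X]
    (a : X) (K : Subgroup G) (hK : K ≤ stabilizer G a) (q1 q2 : X) (n1 n2 : ℕ)
    (h1 : (orbit K q1).ncard = n1) (h2 : (orbit K q2).ncard = n2)
    (hne : n1 ≠ n2) (h11 : n1 ≠ 1) (h21 : n2 ≠ 1) (hsum : 1 + (n1 + n2) = Nat.card X) (y : X) :
    y = a ∨ y ∈ orbit K q1 ∨ y ∈ orbit K q2 := by
  classical
  have horba : orbit K a = {a} := by
    ext y
    constructor
    · rintro ⟨⟨k, hk⟩, rfl⟩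
      exact (mem_stabilizer_iff.1 (hK hk))
    · rintro rfl; exact mem_orbit_self _
  have hnota : ∀ x, (orbit K x).ncard ≠ 1 → a ∉ orbit K x := by
    intro x hx ha
    apply hx
    rw [← orbit_eq_iff.2 ha, horba, Set.ncard_singleton]
  have hdisj : Disjoint (orbit K q1) (orbit K q2) := by
    rw [Set.disjoint_left]
    intro z hz1 hz2
    apply hne
    rw [← h1, ← h2, ← orbit_eq_iff.2 hz1, ← orbit_eq_iff.2 hz2]
  have hcard : ({a} ∪ (orbit K q1 ∪ orbit K q2)).ncard = 1 + (n1 + n2) := by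
    rw [Set.ncard_union_eq _ (Set.toFinite _) (Set.toFinite _), Set.ncard_singleton,
      Set.ncard_union_eq hdisj (Set.toFinite _) (Set.toFinite _), h1, h2]
    rw [Set.disjoint_singleton_left]
    rintro (h | h)
    · exact hnota q1 (by rw [h1]; exact h11) h
    · exact hnota q2 (by rw [h2]; exact h21) h
  have hcover : {a} ∪ (orbit K q1 ∪ orbit K q2) = Set.univ := by
    rw [Set.eq_univ_iff_ncard, hcard, hsum]
  have : y ∈ ({a} ∪ (orbit K q1 ∪ orbit K q2) : Set X) := by rw [hcover]; trivial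
  rcases this with h | h | h
  · left; exact h
  · right; left; exact h
  · right; right; exact h

/-- transport of a non-split double cover without subgroups of index 2 along an isomorphism -/
theorem nonsplit_of_equiv {H H' K : Type*} [Group H] [Group H'] [Group K] (e : H ≃* H')
    (h1 : Nat.card (Subgroup.center H) = 2) (h2 : Nonempty (H ⧸ Subgroup.center H ≃* K))
    (h3 : ∀ L : Subgroup H, L.index ≠ 2) : Cfsg.IsNonsplitDoubleCover H' K := by
  have hc : Nat.card (Subgroup.center H') = 2 := by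
    rw [← h1]
    exact Nat.card_congr (Subgroup.centerCongr e).symm.toEquiv
  refine ⟨hc, ?_, ?_⟩
  · obtain ⟨f⟩ := h2
    have hmap : (Subgroup.center H').map (e.symm : H' →* H) = Subgroup.center H := by
      ext x
      constructor
      · rintro ⟨y, hy, rfl⟩
        have hy' := Subgroup.mem_center_iff.1 hy
        rw [Subgroup.mem_center_iff]
        intro g
        have h4 := congrArg e.symm (hy' (e g))
        simpa using h4
      · intro hx
        have hx' := Subgroup.mem_center_iff.1 hx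
        refine ⟨e x, ?_, by simp⟩
        show e x ∈ Subgroup.center H'
        rw [Subgroup.mem_center_iff]
        intro g
        have h4 := congrArg e (hx' (e.symm g))
        simpa using h4
    exact ⟨(QuotientGroup.congr (Subgroup.center H') (Subgroup.center H) e.symm hmap).trans f⟩
  · intro L hL
    apply h3 (L.comap (e : H →* H'))
    rw [Subgroup.index_comap_of_surjective L e.surjective, hL.index_eq_card, hc]

end General

/-! ### The centralizer of the transposition -/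

/-- the transposition `a` -/
noncomputable abbrev tF : GF := gv Cfsg.Spor.Fi22.Gen.a

theorem tF_sq : tF * tF = 1 := sq _

theorem KF_le_centralizer : KF ≤ Subgroup.centralizer {tF} := by
  rw [KF_eq_range, Subgroup.closure_le]
  rintro _ ⟨o, rfl⟩
  rw [SetLike.mem_coe, Subgroup.mem_centralizer_iff]
  intro y hy
  rw [Set.mem_singleton_iff.1 hy]
  have h := Fi22Ord.conj_a (gwO o) (gwO_mem o)
  exact (mul_inv_eq_iff_eq_mul.1 h).symm

theorem t_central : ∀ k ∈ KF, k * tF = tF * k := by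
  intro k hk
  exact (Subgroup.mem_centralizer_iff.1 (KF_le_centralizer hk) tF (Set.mem_singleton _)).symm

theorem tF_ne_one : tF ≠ 1 := by
  intro h
  have h2 : Subgroup.normalClosure {tF} = ⊥ := by
    rw [h]
    exact Subgroup.normalClosure_eq_bot_iff.2 (by simp)
  have h3 := Fi22Ord.normalClosure_a
  rw [h2] at h3
  have := Fi22Ord.nontrivial_GF
  exact bot_ne_top h3

theorem center_GF : Subgroup.center GF = ⊥ := by
  have := Fi22Ord.isSimpleGroup_GF
  apply center_eq_bot_of_simple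
  rw [Fi22Ord.card_Fi22]
  norm_num

theorem isCoatom_KF : IsCoatom KF := by
  have := prim_KF
  have hnt : Nontrivial (GF ⧸ KF) := by
    rw [← Finite.one_lt_card_iff_nontrivial]
    have hcard : Nat.card (GF ⧸ KF) = 3510 := index_KF
    rw [hcard]; norm_num
  have h := IsPreprimitive.isCoatom_stabilizer_of_isPreprimitive (G := GF)
    ((1 : GF) : GF ⧸ KF)
  rwa [stabilizer_quotient] at h

theorem centralizer_tF : Subgroup.centralizer {tF} = KF := by
  rcases isCoatom_KF.le_iff.1 KF_le_centralizer with h | h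
  · exfalso
    have hmem : tF ∈ Subgroup.center GF := by
      rw [Subgroup.mem_center_iff]
      intro g
      have hg : g ∈ Subgroup.centralizer {tF} := h ▸ Subgroup.mem_top g
      exact (Subgroup.mem_centralizer_iff.1 hg tF (Set.mem_singleton _)).symm
    rw [center_GF, Subgroup.mem_bot] at hmem
    exact tF_ne_one hmem
  · exact h

/-! ### Products of two conjugates of `t` -/

/-- the product of `t` with a conjugate of `t` -/
noncomputable def ff (z : GF) : GF := tF * (z * tF * z⁻¹)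

theorem ff_mul_right (z k : GF) (hk : k ∈ KF) : ff (z * k) = ff z := by
  have hc := t_central k hk
  unfold ff
  rw [mul_inv_rev, mul_assoc z k tF, hc]
  group

theorem ff_mul_left (k z : GF) (hk : k ∈ KF) : ff (k * z) = k * ff z * k⁻¹ := by
  have hc := t_central k hk
  have ht : tF = k * tF * k⁻¹ := by rw [hc, mul_inv_cancel_right]
  unfold ff
  calc tF * (k * z * tF * (k * z)⁻¹) = (k * tF * k⁻¹) * (k * z * tF * (k * z)⁻¹) := by rw [← ht]
    _ = k * (tF * (z * tF * z⁻¹)) * k⁻¹ := by group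

theorem ff_of_coset (z z' : GF) (h : (z : GF ⧸ KF) = z') : ff z' = ff z := by
  rw [QuotientGroup.eq] at h
  have h2 : z' = z * (z⁻¹ * z') := by group
  rw [h2, ff_mul_right z _ h]

theorem ff_of_mem (z : GF) (hz : z ∈ KF) : ff z = 1 := by
  have h := ff_mul_right 1 z hz
  rw [one_mul] at h
  rw [h]
  unfold ff
  rw [one_mul, inv_one, mul_one]
  exact tF_sq

theorem ff_pow_left (n : ℕ) (k z : GF) (hk : k ∈ KF) (h : ff z ^ n = 1) :
    ff (k * z) ^ n = 1 := by
  rw [ff_mul_left k z hk, conj_pow, h, mul_one, mul_inv_cancel]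

theorem conj_eq_of_coset (z z' : GF) (h : (z : GF ⧸ KF) = z') :
    z * tF * z⁻¹ = z' * tF * z'⁻¹ := by
  have h2 := ff_of_coset z z' h
  unfold ff at h2
  exact (mul_left_cancel h2).symm

theorem coset_eq_of_conj (z z' : GF) (h : z * tF * z⁻¹ = z' * tF * z'⁻¹) :
    (z : GF ⧸ KF) = z' := by
  rw [QuotientGroup.eq, ← centralizer_tF, Subgroup.mem_centralizer_iff]
  intro y hy
  rw [Set.mem_singleton_iff.1 hy]
  have h2 : tF = z⁻¹ * (z' * tF * z'⁻¹) * z := by rw [← h]; group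
  calc tF * (z⁻¹ * z') = z⁻¹ * (z' * tF * z'⁻¹) * z * (z⁻¹ * z') := by rw [← h2]
    _ = z⁻¹ * z' * tF := by group

/-- the cosets all of whose members `z` satisfy `(t · z t z⁻¹)^n = 1` -/
def SP (n : ℕ) : Set (GF ⧸ KF) := {q | ∀ z : GF, (z : GF ⧸ KF) = q → ff z ^ n = 1}

theorem mem_SP_of (n : ℕ) (z : GF) (h : ff z ^ n = 1) : (z : GF ⧸ KF) ∈ SP n := by
  intro z' hz'
  rw [ff_of_coset z z' hz'.symm]
  exact h

theorem SP_smul (n : ℕ) (q : GF ⧸ KF) (hq : q ∈ SP n) (k : KF) : k • q ∈ SP n := by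
  obtain ⟨z, rfl⟩ := QuotientGroup.mk_surjective q
  have h : k • (z : GF ⧸ KF) = (((k : GF) * z : GF) : GF ⧸ KF) := rfl
  rw [h]
  exact mem_SP_of n _ (ff_pow_left n k z k.2 (hq z rfl))

theorem SP_orbit (n : ℕ) (p q : GF ⧸ KF) (hp : p ∈ SP n) (hq : q ∈ orbit KF p) : q ∈ SP n := by
  obtain ⟨k, rfl⟩ := hq
  exact SP_smul n p hp k

theorem SP_inter (q : GF ⧸ KF) (h2 : q ∈ SP 2) (h3 : q ∈ SP 3) :
    q = ((1 : GF) : GF ⧸ KF) := by
  obtain ⟨z, rfl⟩ := QuotientGroup.mk_surjective q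
  have h1 : ff z = 1 := eq_one_of_pow_two_three _ (h2 z rfl) (h3 z rfl)
  have hz : z ∈ KF := by
    rw [← centralizer_tF, Subgroup.mem_centralizer_iff]
    intro y hy
    rw [Set.mem_singleton_iff.1 hy]
    unfold ff at h1
    have h4 : z * tF * z⁻¹ = tF := by
      have h5 : z * tF * z⁻¹ = tF⁻¹ := eq_inv_of_mul_eq_one_right h1
      rw [h5]; exact inv_eq_of_mul_eq_one_left tF_sq
    exact (mul_inv_eq_iff_eq_mul.1 h4).symm
  rw [eq_comm, QuotientGroup.eq]
  simpa using hz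

/-! ### Two explicit conjugates -/

/-- conjugates `a` to `c` -/
noncomputable def y1 : GF :=
  (gv Cfsg.Spor.Fi22.Gen.b * gv Cfsg.Spor.Fi22.Gen.c) * (gv Cfsg.Spor.Fi22.Gen.a * gv Cfsg.Spor.Fi22.Gen.b)

/-- conjugates `a` to `b` -/
noncomputable def y2 : GF := gv Cfsg.Spor.Fi22.Gen.a * gv Cfsg.Spor.Fi22.Gen.b

theorem y2_conj : y2 * tF * y2⁻¹ = gv Cfsg.Spor.Fi22.Gen.b :=
  conj_braid _ _ (sq _) (sq _) (rel_cube _ _ (by decide))

theorem y1_conj : y1 * tF * y1⁻¹ = gv Cfsg.Spor.Fi22.Gen.c := by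
  have hB := conj_braid (gv Cfsg.Spor.Fi22.Gen.b) (gv Cfsg.Spor.Fi22.Gen.c) (sq _) (sq _)
    (rel_cube _ _ (by decide))
  have hA := y2_conj
  unfold y1
  unfold y2 at hA
  calc (gv Cfsg.Spor.Fi22.Gen.b * gv Cfsg.Spor.Fi22.Gen.c) *
        (gv Cfsg.Spor.Fi22.Gen.a * gv Cfsg.Spor.Fi22.Gen.b) * tF *
        ((gv Cfsg.Spor.Fi22.Gen.b * gv Cfsg.Spor.Fi22.Gen.c) *
          (gv Cfsg.Spor.Fi22.Gen.a * gv Cfsg.Spor.Fi22.Gen.b))⁻¹
      = (gv Cfsg.Spor.Fi22.Gen.b * gv Cfsg.Spor.Fi22.Gen.c) *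
          ((gv Cfsg.Spor.Fi22.Gen.a * gv Cfsg.Spor.Fi22.Gen.b) * tF *
            (gv Cfsg.Spor.Fi22.Gen.a * gv Cfsg.Spor.Fi22.Gen.b)⁻¹) *
          (gv Cfsg.Spor.Fi22.Gen.b * gv Cfsg.Spor.Fi22.Gen.c)⁻¹ := by group
    _ = gv Cfsg.Spor.Fi22.Gen.c := by rw [hA, hB]

theorem ff_y1 : ff y1 = tF * gv Cfsg.Spor.Fi22.Gen.c := by
  unfold ff
  rw [y1_conj]

theorem ff_y2 : ff y2 = tF * gv Cfsg.Spor.Fi22.Gen.b := by
  unfold ff
  rw [y2_conj]

theorem ac_sq : (tF * gv Cfsg.Spor.Fi22.Gen.c) ^ 2 = 1 := by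
  have h1 := relWord_one [Cfsg.Spor.Fi22.Gen.a, .c, .a, .c] (by decide)
  simpa [wval, pow_succ, mul_assoc] using h1

theorem ff_y1_sq : ff y1 ^ 2 = 1 := by rw [ff_y1, ac_sq]

theorem ff_y2_cube : ff y2 ^ 3 = 1 := by
  rw [ff_y2]
  exact rel_cube _ _ (by decide)

theorem gv_ne (x y : Cfsg.Spor.Fi22.Gen) (i : ℕ) (hi : i < Fi22x3510.nn)
    (h : Fi22x3510.tf x i ≠ Fi22x3510.tf y i) : gv x ≠ gv y := by
  intro he
  apply h
  have h1 : phi (gv x) = phi (gv y) := by rw [he]
  have h2 : ∀ z, phi (gv z) = Fi22x3510.T.perm z :=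
    fun z => PresentedGroup.toGroup.of Fi22x3510.hrel
  rw [h2, h2] at h1
  have h3 := congrArg (fun p => (p ⟨i, hi⟩).val) h1
  exact h3

theorem not_mem_of_ff (y : GF) (z : Cfsg.Spor.Fi22.Gen) (hff : ff y = tF * gv z) (i : ℕ)
    (hi : i < Fi22x3510.nn) (h : Fi22x3510.tf .a i ≠ Fi22x3510.tf z i) : y ∉ KF := by
  intro hmem
  have h1 := ff_of_mem y hmem
  rw [hff] at h1
  have h3 : gv Cfsg.Spor.Fi22.Gen.a = gv z := by
    rw [← Fi22Ord.gv_inv z]; exact eq_inv_of_mul_eq_one_left h1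
  exact gv_ne .a z i hi h h3

theorem y1_not_mem : y1 ∉ KF :=
  not_mem_of_ff y1 .c ff_y1 1 (by decide) (by decide +kernel)

theorem y2_not_mem : y2 ∉ KF :=
  not_mem_of_ff y2 .b ff_y2 0 (by decide) (by decide +kernel)

/-! ### The orbits of `2·U₆(2)` on its cosets -/

theorem cover_KF : ∃ q1 q2 : GF ⧸ KF, ∀ y : GF ⧸ KF,
    y = ((1 : GF) : GF ⧸ KF) ∨ y ∈ orbit KF q1 ∨ y ∈ orbit KF q2 := by
  obtain ⟨e, _, hequiv⟩ := Fi22x3510.cosetEquiv
  have hS : ∀ s ∈ Fi22x3510.subS, ∃ w ∈ Fi22x3510.subWords,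
      FreeGroup.lift Fi22x3510.T.perm s = (w.map Fi22x3510.T.perm).prod := by
    intro s hs
    obtain ⟨ex, hex, rfl⟩ := (Fi22x3510.subS_iff s).1 hs
    exact ⟨ex.evalW, Fi22x3510.subE_words ex hex,
      TC.WE.lift_evalF Fi22x3510.T.perm Fi22x3510.T.perm_mul_self ex⟩
  have hW : ∀ w ∈ Fi22x3510.subWords, ∃ s ∈ Fi22x3510.subS,
      FreeGroup.lift Fi22x3510.T.perm s = (w.map Fi22x3510.T.perm).prod := by
    intro w hw
    obtain ⟨ex, hex, rfl⟩ := Fi22x3510.subWords_cover w hw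
    exact ⟨ex.evalF, (Fi22x3510.subS_iff _).2 ⟨ex, hex, rfl⟩,
      TC.WE.lift_evalF Fi22x3510.T.perm Fi22x3510.T.perm_mul_self ex⟩
  let q1 : GF ⧸ KF := e.symm ⟨6, by decide⟩
  let q2 : GF ⧸ KF := e.symm ⟨1, by decide⟩
  have h1 : (orbit KF q1).ncard = 693 :=
    TC.orbit_ncard_of_cert Fi22x3510.T Fi22x3510.hrel e hequiv Fi22x3510.subWords hS hW
      (Fi22x3510.OC 2 6) (by decide) Fi22x3510.orb2_root Fi22x3510.orbP2_all 12 693
      Fi22x3510.nn_le_pow Fi22x3510.orb2_count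
  have h2 : (orbit KF q2).ncard = 2816 :=
    TC.orbit_ncard_of_cert Fi22x3510.T Fi22x3510.hrel e hequiv Fi22x3510.subWords hS hW
      (Fi22x3510.OC 1 1) (by decide) Fi22x3510.orb1_root Fi22x3510.orbP1_all 12 2816
      Fi22x3510.nn_le_pow Fi22x3510.orb1_count
  have hcard : Nat.card (GF ⧸ KF) = 3510 := index_KF
  refine ⟨q1, q2, fun y => ?_⟩
  exact cover_of_two_suborbits ((1 : GF) : GF ⧸ KF) KF (le_of_eq (stabilizer_quotient KF).symm)
    q1 q2 693 2816 h1 h2 (by decide) (by decide) (by decide) (by rw [hcard]) y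

/-- the product of `t` with any of its conjugates has order 1, 2 or 3 -/
theorem ff_two_or_three (z : GF) : ff z ^ 2 = 1 ∨ ff z ^ 3 = 1 := by
  obtain ⟨q1, q2, hcov⟩ := cover_KF
  have hp1 : (y1 : GF ⧸ KF) ∈ SP 2 := mem_SP_of 2 y1 ff_y1_sq
  have hp2 : (y2 : GF ⧸ KF) ∈ SP 3 := mem_SP_of 3 y2 ff_y2_cube
  have hx0 : ((1 : GF) : GF ⧸ KF) ∈ SP 2 :=
    mem_SP_of 2 1 (by rw [ff_of_mem 1 KF.one_mem, one_pow])
  have hne1 : (y1 : GF ⧸ KF) ≠ ((1 : GF) : GF ⧸ KF) := by
    intro h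
    apply y1_not_mem
    rw [eq_comm, QuotientGroup.eq] at h
    simpa using h
  have hne2 : (y2 : GF ⧸ KF) ≠ ((1 : GF) : GF ⧸ KF) := by
    intro h
    apply y2_not_mem
    rw [eq_comm, QuotientGroup.eq] at h
    simpa using h
  have hnot : ∀ q : GF ⧸ KF, (y1 : GF ⧸ KF) ∈ orbit KF q → (y2 : GF ⧸ KF) ∈ orbit KF q →
      False := by
    intro q h1 h2
    rw [← orbit_eq_iff.2 h1] at h2
    exact hne2 (SP_inter _ (SP_orbit 2 _ _ hp1 h2) hp2)
  have key : ∀ q : GF ⧸ KF, q ∈ SP 2 ∨ q ∈ SP 3 := by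
    intro q
    rcases hcov q with h | h | h
    · left; rw [h]; exact hx0
    · rcases hcov y1 with h1 | h1 | h1
      · exact absurd h1 hne1
      · left
        have h3 : q ∈ orbit KF (y1 : GF ⧸ KF) := by rw [orbit_eq_iff.2 h1]; exact h
        exact SP_orbit 2 _ _ hp1 h3
      · rcases hcov y2 with h2 | h2 | h2
        · exact absurd h2 hne2
        · right
          have h3 : q ∈ orbit KF (y2 : GF ⧸ KF) := by rw [orbit_eq_iff.2 h2]; exact h
          exact SP_orbit 3 _ _ hp2 h3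
        · exact (hnot q2 h1 h2).elim
    · rcases hcov y1 with h1 | h1 | h1
      · exact absurd h1 hne1
      · rcases hcov y2 with h2 | h2 | h2
        · exact absurd h2 hne2
        · exact (hnot q1 h1 h2).elim
        · right
          have h3 : q ∈ orbit KF (y2 : GF ⧸ KF) := by rw [orbit_eq_iff.2 h2]; exact h
          exact SP_orbit 3 _ _ hp2 h3
      · left
        have h3 : q ∈ orbit KF (y1 : GF ⧸ KF) := by rw [orbit_eq_iff.2 h1]; exact h
        exact SP_orbit 2 _ _ hp1 h3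
  rcases key (z : GF ⧸ KF) with h | h
  · left; exact h z rfl
  · right; exact h z rfl

/-! ### The class of 3-transpositions -/

/-- the class of 3-transpositions -/
def DF : Set GF := conjugatesOf tF

theorem mem_DF (x : GF) : x ∈ DF ↔ ∃ g : GF, g * tF * g⁻¹ = x := by
  show IsConj tF x ↔ _
  rw [isConj_iff]

theorem tF_mem_DF : tF ∈ DF := (mem_DF tF).2 ⟨1, by group⟩

theorem three_transp_set : Cfsg.IsThreeTranspositionSet DF := by
  constructor
  · intro d hd
    obtain ⟨g, rfl⟩ := (mem_DF d).1 hd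
    apply orderOf_eq_prime
    · rw [conj_pow, pow_two, tF_sq, mul_one, mul_inv_cancel]
    · intro h
      apply tF_ne_one
      have h2 : tF = g⁻¹ * (g * tF * g⁻¹) * g := by group
      rw [h2, h]; group
  · intro d hd e he
    obtain ⟨g, rfl⟩ := (mem_DF d).1 hd
    obtain ⟨g', rfl⟩ := (mem_DF e).1 he
    have hconj : g * tF * g⁻¹ * (g' * tF * g'⁻¹) = g * ff (g⁻¹ * g') * g⁻¹ := by
      unfold ff; group
    rw [hconj, conj_pow, conj_pow]
    rcases ff_two_or_three (g⁻¹ * g') with h | h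
    · left; rw [h, mul_one, mul_inv_cancel]
    · right; rw [h, mul_one, mul_inv_cancel]

theorem closure_DF : Subgroup.closure DF = ⊤ := by
  have h : DF = Group.conjugatesOfSet {tF} := by
    ext x
    rw [Group.mem_conjugatesOfSet_iff]
    constructor
    · intro hx
      exact ⟨tF, Set.mem_singleton _, hx⟩
    · rintro ⟨a, ha, hx⟩
      rw [Set.mem_singleton_iff.1 ha] at hx
      exact hx
  rw [h]
  exact Fi22Ord.normalClosure_a

theorem three_transp_class : Cfsg.IsThreeTranspositionClass DF :=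
  ⟨three_transp_set, ⟨tF, tF_mem_DF, rfl⟩, closure_DF⟩

theorem card_DF : Nat.card DF = 3510 := by
  rw [← index_KF]
  symm
  let F : GF ⧸ KF → DF := fun q => ⟨q.out * tF * q.out⁻¹, (mem_DF _).2 ⟨q.out, rfl⟩⟩
  show Nat.card (GF ⧸ KF) = Nat.card DF
  apply Nat.card_congr (Equiv.ofBijective F ⟨?_, ?_⟩)
  · intro q q' h
    have h1 : q.out * tF * q.out⁻¹ = q'.out * tF * q'.out⁻¹ := congrArg Subtype.val h
    have h2 := coset_eq_of_conj _ _ h1
    rwa [QuotientGroup.out_eq', QuotientGroup.out_eq'] at h2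
  · rintro ⟨d, hd⟩
    obtain ⟨g, rfl⟩ := (mem_DF d).1 hd
    refine ⟨(g : GF ⧸ KF), Subtype.ext ?_⟩
    show ((g : GF ⧸ KF)).out * tF * ((g : GF ⧸ KF)).out⁻¹ = g * tF * g⁻¹
    apply conj_eq_of_coset
    exact QuotientGroup.out_eq' _

/-! ### The centralizers -/

theorem centralizer_conj (g : GF) :
    Subgroup.centralizer {g * tF * g⁻¹} = KF.map (MulAut.conj g).toMonoidHom := by
  ext x
  rw [Subgroup.mem_centralizer_iff, Subgroup.mem_map]
  constructor
  · intro h
    refine ⟨g⁻¹ * x * g, ?_, ?_⟩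
    · rw [← centralizer_tF, Subgroup.mem_centralizer_iff]
      intro y hy
      rw [Set.mem_singleton_iff.1 hy]
      have h2 := h _ (Set.mem_singleton _)
      calc tF * (g⁻¹ * x * g) = g⁻¹ * (g * tF * g⁻¹ * x) * g := by group
        _ = g⁻¹ * (x * (g * tF * g⁻¹)) * g := by rw [h2]
        _ = g⁻¹ * x * g * tF := by group
    · show g * (g⁻¹ * x * g) * g⁻¹ = x
      group
  · rintro ⟨k, hk, rfl⟩ y hy
    rw [Set.mem_singleton_iff.1 hy]
    have hc := t_central k hk
    show g * tF * g⁻¹ * (g * k * g⁻¹) = g * k * g⁻¹ * (g * tF * g⁻¹)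
    calc g * tF * g⁻¹ * (g * k * g⁻¹) = g * (tF * k) * g⁻¹ := by group
      _ = g * (k * tF) * g⁻¹ := by rw [hc]
      _ = g * k * g⁻¹ * (g * tF * g⁻¹) := by group

theorem nonsplit_centralizer (d : GF) (hd : d ∈ DF) :
    Cfsg.IsNonsplitDoubleCover (Subgroup.centralizer ({d} : Set GF)) (Cfsg.PSU 6 F4 2) := by
  obtain ⟨g, rfl⟩ := (mem_DF d).1 hd
  have e : KF ≃* Subgroup.centralizer ({g * tF * g⁻¹} : Set GF) :=
    (KF.equivMapOfInjective _ (MulAut.conj g).injective).trans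
      (MulEquiv.subgroupCongr (centralizer_conj g).symm)
  have hns := nonsplit_cover
  exact nonsplit_of_equiv e hns.1 hns.2.1 no_index_two

/-- the presented Fi₂₂ as a 3-transposition group -/
theorem fi22_realization : ∃ D : Set GF, Cfsg.IsThreeTranspositionClass D ∧ Nat.card D = 3510 ∧
    ∀ d ∈ D, ∃ (F : Type) (_ : Field F) (_ : Fintype F), Fintype.card F = 4 ∧
      Cfsg.IsNonsplitDoubleCover (Subgroup.centralizer ({d} : Set GF)) (Cfsg.PSU 6 F 2) := by
  refine ⟨DF, three_transp_class, card_DF, fun d hd => ?_⟩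
  exact ⟨F4, inferInstance, inferInstance, F4.card, nonsplit_centralizer d hd⟩

end Cfsg.Agent.Lib.Helper28.U62
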